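import Mathlib

/-!
# Disk complexes: enough injectives for complexes, contractibility
-/

set_option autoImplicit false
set_option backward.isDefEq.respectTransparency false
set_option backward.isDefEq.respectTransparency.types false
set_option linter.style.haveILetI false

universe v u v' u'

open CategoryTheory CategoryTheory.Limits HomologicalComplex

namespace Groth.Agent.LDerShiftLib

variable {A : Type u} [Category.{v} A] [Abelian A]

/-- The sum over `m` of the disks on `J m` in degrees `m - 1, m`. -/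
noncomputable def disk (J : ℤ → A) : CochainComplex A ℤ :=
  CochainComplex.of (fun m => J m ⊞ J (m + 1)) (fun m => biprod.snd ≫ biprod.inl)
    (fun m => by simp)

@[simp]
theorem disk_d (J : ℤ → A) (m : ℤ) : (disk J).d m (m + 1) =
    (biprod.snd ≫ biprod.inl : J m ⊞ J (m + 1) ⟶ J (m + 1) ⊞ J (m + 1 + 1)) :=
  CochainComplex.of_d (fun m => J m ⊞ J (m + 1))
    (fun m => (biprod.snd ≫ biprod.inl : J m ⊞ J (m + 1) ⟶ J (m + 1) ⊞ J (m + 1 + 1))) m

theorem disk_comp_d_fst (J : ℤ → A) {T : A} (m : ℤ) (x : T ⟶ J m ⊞ J (m + 1)) :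
    x ≫ (disk J).d m (m + 1) ≫ (biprod.fst : J (m + 1) ⊞ J (m + 1 + 1) ⟶ J (m + 1)) =
      x ≫ biprod.snd := by
  rw [disk_d]
  simp

/-- A morphism into a disk complex. -/
noncomputable def toDisk {Y : CochainComplex A ℤ} {J : ℤ → A} (φ : ∀ m, Y.X m ⟶ J m) : Y ⟶ disk J where
  f m := (biprod.lift (φ m) (Y.d m (m + 1) ≫ φ (m + 1)) : Y.X m ⟶ J m ⊞ J (m + 1))
  comm' i j hij := by
    obtain rfl : i + 1 = j := hij
    rw [disk_d]
    change (_ : Y.X i ⟶ J (i + 1) ⊞ J (i + 1 + 1)) = _
    apply biprod.hom_ext <;> simp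

theorem toDisk_fst {Y : CochainComplex A ℤ} {J : ℤ → A} (φ : ∀ m, Y.X m ⟶ J m) (m : ℤ) :
    (toDisk φ).f m ≫ (biprod.fst : J m ⊞ J (m + 1) ⟶ J m) = φ m := by
  simp [toDisk]

theorem toDisk_hom_ext {Y : CochainComplex A ℤ} {J : ℤ → A} {a b : Y ⟶ disk J}
    (h : ∀ m, a.f m ≫ (biprod.fst : J m ⊞ J (m + 1) ⟶ J m) = b.f m ≫ biprod.fst) : a = b := by
  ext m
  refine biprod.hom_ext _ _ (h m) ?_
  have e : ∀ c : Y ⟶ disk J, c.f m ≫ (biprod.snd : J m ⊞ J (m + 1) ⟶ J (m + 1)) =
      Y.d m (m + 1) ≫ c.f (m + 1) ≫ biprod.fst := fun c => by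
    rw [← disk_comp_d_fst J m (c.f m)]
    exact c.comm_assoc m (m + 1) _
  exact ((e a).trans (congrArg (Y.d m (m + 1) ≫ ·) (h (m + 1)))).trans (e b).symm

instance injective_disk (J : ℤ → A) [∀ m, Injective (J m)] : Injective (disk J) where
  factors {X Y} g i _ := by
    refine ⟨toDisk (fun m => Injective.factorThru (g.f m ≫ biprod.fst) (i.f m)),
      toDisk_hom_ext fun m => ?_⟩
    rw [HomologicalComplex.comp_f, Category.assoc, toDisk_fst, Injective.comp_factorThru]

instance enoughInjectives_complex [EnoughInjectives A] : EnoughInjectives (CochainComplex A ℤ) where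
  presentation X := by
    haveI : ∀ m, Mono ((toDisk (Y := X) (fun m => Injective.ι (X.X m))).f m) := fun m =>
      mono_of_mono_fac (toDisk_fst (Y := X) (fun m => Injective.ι (X.X m)) m)
    exact ⟨{ J := disk fun m => Injective.under (X.X m)
             f := toDisk fun m => Injective.ι (X.X m)
             mono := HomologicalComplex.mono_of_mono_f _ inferInstance }⟩

/-- The contracting homotopy of a disk complex. -/
noncomputable def diskHomotopy (J : ℤ → A) : Homotopy (𝟙 (disk J)) 0 where
  hom i j :=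
    if h : j + 1 = i then
      eqToHom (show (disk J).X i = (J (j + 1) ⊞ J (j + 1 + 1)) by subst h; rfl) ≫ biprod.fst ≫
        (biprod.inr : J (j + 1) ⟶ J j ⊞ J (j + 1))
    else 0
  zero i j hij := dif_neg hij
  comm i := by
    obtain ⟨i, rfl⟩ : ∃ k : ℤ, i = k + 1 := ⟨i - 1, by omega⟩
    rw [dNext_eq _ (show (ComplexShape.up ℤ).Rel (i + 1) (i + 1 + 1) from rfl),
      prevD_eq _ (show (ComplexShape.up ℤ).Rel i (i + 1) from rfl), dif_pos rfl, dif_pos rfl]
    simp only [disk_d, eqToHom_refl, Category.id_comp, HomologicalComplex.id_f,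
      HomologicalComplex.zero_f, add_zero, Category.assoc]
    change 𝟙 (J (i + 1) ⊞ J (i + 1 + 1)) = _
    apply biprod.hom_ext' <;> apply biprod.hom_ext <;> simp

theorem exists_mono_disk [EnoughInjectives A] (X : CochainComplex A ℤ) :
    ∃ (J : ℤ → A) (_ : ∀ m, Injective (J m)) (i : X ⟶ disk J), Mono i := by
  haveI : ∀ m, Mono ((toDisk (Y := X) (fun m => Injective.ι (X.X m))).f m) := fun m =>
    mono_of_mono_fac (toDisk_fst (Y := X) (fun m => Injective.ι (X.X m)) m)
  exact ⟨fun m => Injective.under (X.X m), inferInstance, toDisk fun m => Injective.ι (X.X m),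
    HomologicalComplex.mono_of_mono_f _ inferInstance⟩

theorem nonempty_homotopy_of_injective [EnoughInjectives A] (I : CochainComplex A ℤ) [Injective I] :
    Nonempty (Homotopy (𝟙 I) 0) := by
  obtain ⟨J, hJ, i, hi⟩ := exists_mono_disk I
  exact ⟨(Homotopy.ofEq (by simp)).trans
    ((((diskHomotopy J).compLeft i).compRight (Injective.factorThru (𝟙 I) i)).trans
      (Homotopy.ofEq (by simp)))⟩

theorem injective_X_of_injective [EnoughInjectives A] (I : CochainComplex A ℤ) [Injective I] (m : ℤ) :
    Injective (I.X m) := by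
  obtain ⟨J, hJ, i, hi⟩ := exists_mono_disk I
  haveI : Injective ((disk J).X m) := inferInstanceAs (Injective (J m ⊞ J (m + 1)))
  exact (Retract.mk (i.f m) ((Injective.factorThru (𝟙 I) i).f m) (by
    rw [← HomologicalComplex.comp_f, Injective.comp_factorThru, HomologicalComplex.id_f])).injective

theorem acyclic_of_homotopy {B : Type u'} [Category.{v'} B] [Abelian B] {M : CochainComplex B ℤ}
    (h : Homotopy (𝟙 M) 0) : M.Acyclic := by
  intro m
  rw [exactAt_iff_isZero_homology, IsZero.iff_id_eq_zero, ← HomologicalComplex.homologyMap_id,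
    h.homologyMap_eq, HomologicalComplex.homologyMap_zero]

theorem acyclic_disk (J : ℤ → A) : (disk J).Acyclic := acyclic_of_homotopy (diskHomotopy J)

theorem acyclic_of_injective [EnoughInjectives A] (I : CochainComplex A ℤ) [Injective I] : I.Acyclic :=
  acyclic_of_homotopy (nonempty_homotopy_of_injective I).some

theorem acyclic_map_of_injective [EnoughInjectives A] {B : Type u'} [Category.{v'} B] [Abelian B]
    (F : A ⥤ B) [F.Additive] (I : CochainComplex A ℤ) [Injective I] :
    ((F.mapHomologicalComplex (ComplexShape.up ℤ)).obj I).Acyclic :=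
  acyclic_of_homotopy ((Homotopy.ofEq (by simp)).trans
    ((F.mapHomotopy (nonempty_homotopy_of_injective I).some).trans (Homotopy.ofEq (by simp))))

end Groth.Agent.LDerShiftLib
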