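import Groth.Agent.LDerShiftLib.Disk

/-!
# Right derived functors of the extension of a functor to complexes, degree by degree
-/

set_option autoImplicit false
set_option backward.isDefEq.respectTransparency false
set_option backward.isDefEq.respectTransparency.types false
set_option linter.style.haveILetI false

universe v u v' u'

open CategoryTheory CategoryTheory.Limits HomologicalComplex

namespace Groth.Agent.LDerShiftLib

variable {A : Type u} [Category.{v} A] [Abelian A] [EnoughInjectives A]
  {B : Type u'} [Category.{v'} B] [Abelian B] (F : A ⥤ B) [F.Additive]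

/-- The extension of `F` to complexes. -/
abbrev mapC : CochainComplex A ℤ ⥤ CochainComplex B ℤ := F.mapHomologicalComplex (ComplexShape.up ℤ)

/-- Evaluation in degree `m`. -/
abbrev evA (A : Type u) [Category.{v} A] [Abelian A] (m : ℤ) : CochainComplex A ℤ ⥤ A :=
  HomologicalComplex.eval A (ComplexShape.up ℤ) m

/-- The differential as a natural transformation. -/
@[simps]
def evD (A : Type u) [Category.{v} A] [Abelian A] (m m' : ℤ) : evA A m ⟶ evA A m' where
  app X := X.d m m'
  naturality _ _ f := f.comm m m'

instance additive_rightDerived {C : Type*} [Category C] [Abelian C] [HasInjectiveResolutions C]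
    {D : Type*} [Category D] [Abelian D] (G : C ⥤ D) [G.Additive] (k : ℕ) :
    (G.rightDerived k).Additive where
  map_add {X Y f f'} := by
    let P := injectiveResolution X
    let Q := injectiveResolution Y
    rw [G.rightDerived_map_eq k f (InjectiveResolution.desc f Q P) (by simp),
      G.rightDerived_map_eq k f' (InjectiveResolution.desc f' Q P) (by simp),
      G.rightDerived_map_eq k (f + f')
        (InjectiveResolution.desc f Q P + InjectiveResolution.desc f' Q P)
        (by simp [Preadditive.add_comp, Preadditive.comp_add]),
      Functor.map_add]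
    simp [Preadditive.add_comp, Preadditive.comp_add]

/-- The degree `m` part of an injective resolution of a complex. -/
noncomputable def evalRes {L : CochainComplex A ℤ} (P : InjectiveResolution L) (m : ℤ) :
    InjectiveResolution (L.X m) where
  cocomplex := ((evA A m).mapHomologicalComplex (ComplexShape.up ℕ)).obj P.cocomplex
  injective j := injective_X_of_injective (P.cocomplex.X j) m
  ι := (HomologicalComplex.singleMapHomologicalComplex (evA A m) (ComplexShape.up ℕ) 0).inv.app L ≫
    ((evA A m).mapHomologicalComplex (ComplexShape.up ℕ)).map P.ι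
  quasiIso := inferInstance

theorem evalRes_ι {L : CochainComplex A ℤ} (P : InjectiveResolution L) (m : ℤ) :
    (evalRes P m).ι.f 0 = (P.ι.f 0).f m := by
  simp [evalRes]

/-- `Rⁱ` of the extension to complexes is computed degree by degree. -/
noncomputable def evIso (i : ℕ) {L : CochainComplex A ℤ} (P : InjectiveResolution L) (m : ℤ) :
    (((mapC F).rightDerived i).obj L).X m ≅ (F.rightDerived i).obj (L.X m) :=
  (evA B m).mapIso (P.isoRightDerivedObj (mapC F) i) ≪≫
    (((((mapC F).mapHomologicalComplex (ComplexShape.up ℕ)).obj P.cocomplex).sc i).mapHomologyIso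
      (evA B m)).symm ≪≫
    ((evalRes P m).isoRightDerivedObj F i).symm

theorem evIso_naturality (i : ℕ) {L L' : CochainComplex A ℤ} (P : InjectiveResolution L)
    (P' : InjectiveResolution L') (φ : L ⟶ L') (m : ℤ) :
    (((mapC F).rightDerived i).map φ).f m ≫ (evIso F i P' m).hom =
      (evIso F i P m).hom ≫ (F.rightDerived i).map (φ.f m) := by
  let g : P.cocomplex ⟶ P'.cocomplex := InjectiveResolution.desc φ P' P
  have hg : P.ι.f 0 ≫ g.f 0 = φ ≫ P'.ι.f 0 := InjectiveResolution.desc_commutes_zero φ P' P
  have h1 := congrArg (fun z => z.f m)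
    (InjectiveResolution.isoRightDerivedObj_hom_naturality φ P P' g hg (mapC F) i)
  have h2 := ShortComplex.mapHomologyIso_inv_naturality
    ((HomologicalComplex.shortComplexFunctor _ (ComplexShape.up ℕ) i).map
      (((mapC F).mapHomologicalComplex (ComplexShape.up ℕ)).map g)) (evA B m)
  have h3 := InjectiveResolution.isoRightDerivedObj_inv_naturality (φ.f m) (evalRes P m)
    (evalRes P' m) (((evA A m).mapHomologicalComplex _).map g)
    (by
      rw [evalRes_ι, evalRes_ι]
      exact congrArg (fun z => z.f m) hg) F i
  simp only [evIso, Iso.trans_hom, Iso.symm_hom, Category.assoc]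
  rw [h3]
  change _ ≫ ((P'.isoRightDerivedObj (mapC F) i).hom.f m) ≫ _ = _
  simp only [HomologicalComplex.comp_f] at h1
  rw [← Category.assoc, h1, Category.assoc]
  exact congrArg ((P.isoRightDerivedObj (mapC F) i).hom.f m ≫ ·) ((reassoc_of% h2) _)

theorem evIso_d (i : ℕ) {L : CochainComplex A ℤ} (P : InjectiveResolution L) (m m' : ℤ) :
    (((mapC F).rightDerived i).obj L).d m m' ≫ (evIso F i P m').hom =
      (evIso F i P m).hom ≫ (F.rightDerived i).map (L.d m m') := by
  have h1 := (P.isoRightDerivedObj (mapC F) i).hom.comm m m'
  have h2 := NatTrans.app_homology (evD B m m')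
    ((((mapC F).mapHomologicalComplex (ComplexShape.up ℕ)).obj P.cocomplex).sc i)
  have h3 := InjectiveResolution.isoRightDerivedObj_inv_naturality (L.d m m') (evalRes P m)
    (evalRes P m') ((NatTrans.mapHomologicalComplex (evD A m m') _).app P.cocomplex)
    (by
      rw [evalRes_ι, evalRes_ι]
      exact (P.ι.f 0).comm m m') F i
  simp only [evIso, Iso.trans_hom, Iso.symm_hom, Category.assoc]
  rw [h3]
  change _ ≫ ((P.isoRightDerivedObj (mapC F) i).hom.f m') ≫ _ = _
  rw [← Category.assoc, ← h1, Category.assoc]
  refine congrArg ((P.isoRightDerivedObj (mapC F) i).hom.f m ≫ ·) ?_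
  change (evD B m m').app _ ≫ _ = _
  erw [h2]
  simp only [Category.assoc]
  refine congrArg (_ ≫ ·) ?_
  erw [Iso.hom_inv_id_assoc]
  rfl

variable (i : ℕ)

/-- `Rⁱ` of the extension to complexes is the extension of `Rⁱ`. -/
noncomputable def rightDerivedMapIso :
    (mapC F).rightDerived i ≅ (F.rightDerived i).mapHomologicalComplex (ComplexShape.up ℤ) :=
  NatIso.ofComponents
    (fun L => HomologicalComplex.Hom.isoOfComponents (fun m => evIso F i (injectiveResolution L) m)
      (fun m m' _ => (evIso_d F i (injectiveResolution L) m m').symm))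
    (fun φ => by
      ext m
      exact evIso_naturality F i _ _ φ m)

theorem isZero_rightDerived_mapC (L : CochainComplex A ℤ)
    (h : ∀ m, IsZero ((F.rightDerived i).obj (L.X m))) : IsZero (((mapC F).rightDerived i).obj L) := by
  refine IsZero.of_iso ?_ ((rightDerivedMapIso F i).app L)
  rw [IsZero.iff_id_eq_zero]
  ext m
  exact (h m).eq_of_src _ _

end Groth.Agent.LDerShiftLib
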