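import Groth.Agent.LDerShiftLib.Step

/-!
# Resolutions on the left by objects with only `Rⁿ`, acyclicity of the `n`-th cosyzygy
-/

set_option autoImplicit false
set_option backward.isDefEq.respectTransparency false
set_option backward.isDefEq.respectTransparency.types false
set_option linter.style.haveILetI false
set_option linter.unusedSectionVars false

universe w v u v' u'

open CategoryTheory CategoryTheory.Limits HomologicalComplex SpSeqLib

namespace Groth.Agent.LDerShiftLib

variable {A : Type u} [Category.{v} A] [Abelian A] [EnoughInjectives A] [HasDerivedCategory.{w} A]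
  {B : Type u'} [Category.{v'} B] [Abelian B]
  (F : A ⥤ B) [F.Additive] [PreservesFiniteLimits F] (n : ℕ)

theorem rz₁ {T : ShortComplex A} (hT : T.ShortExact) (q : ℕ)
    (h₃ : IsZero ((F.rightDerived q).obj T.X₃)) (h₂ : IsZero ((F.rightDerived (q + 1)).obj T.X₂)) :
    IsZero ((F.rightDerived (q + 1)).obj T.X₁) :=
  (AcycResLib.isZero_of_shortExact₁ F hT q (h₃.of_iso (nonempty_phiSingle_iso F _ q).some)
    (h₂.of_iso (nonempty_phiSingle_iso F _ (q + 1)).some)).of_iso (nonempty_phiSingle_iso F _ (q + 1)).some.symm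

theorem rz₃ {T : ShortComplex A} (hT : T.ShortExact) (q : ℕ)
    (h₂ : IsZero ((F.rightDerived q).obj T.X₂)) (h₁ : IsZero ((F.rightDerived (q + 1)).obj T.X₁)) :
    IsZero ((F.rightDerived q).obj T.X₃) :=
  (AcycResLib.isZero_of_shortExact₃ F hT q (h₂.of_iso (nonempty_phiSingle_iso F _ q).some)
    (h₁.of_iso (nonempty_phiSingle_iso F _ (q + 1)).some)).of_iso (nonempty_phiSingle_iso F _ q).some.symm

theorem rz0 {T : ShortComplex A} (hT : T.ShortExact) (h₂ : IsZero ((F.rightDerived 0).obj T.X₂)) :
    IsZero ((F.rightDerived 0).obj T.X₁) := by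
  haveI := hT.mono_f
  refine IsZero.of_iso ?_ (F.rightDerivedZeroIsoSelf.app T.X₁)
  exact (h₂.of_iso (F.rightDerivedZeroIsoSelf.app T.X₂).symm).of_mono (F.map T.f)

theorem cosyzygy_acyclic (hdim : ∀ (X : A) (i : ℕ), n < i → IsZero ((F.rightDerived i).obj X))
    (L : CochainComplex A ℤ) (m : ℤ) (i : ℕ) (hi : 0 < i) :
    IsZero ((F.rightDerived i).obj (((jres L).cycles n).X m)) := by
  have key : ∀ k : ℕ, ∀ q : ℕ, 0 < q → n < q + k →
      IsZero ((F.rightDerived q).obj (((jres L).cycles k).X m)) := by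
    intro k
    induction k with
    | zero => exact fun q _ h => hdim _ q h
    | succ k ih =>
      intro q hq h
      refine rz₃ F ((jres_shortExact L k).map_of_exact (evA A m)) q ?_ (ih (q + 1) q.succ_pos (by omega))
      haveI := injective_X_of_injective ((jres L).X k) m
      obtain ⟨q, rfl⟩ : ∃ r, q = r + 1 := ⟨q - 1, by omega⟩
      exact F.isZero_rightDerived_obj_injective_succ q (((jres L).X k).X m)
  exact key n i hi (by omega)

/-- The class of complexes with only `Rⁿ`. -/
def LowVanish (k : ℕ) (X : CochainComplex A ℤ) : Prop :=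
  ∀ i, i < k → ∀ m, IsZero ((F.rightDerived i).obj (X.X m))

omit [HasDerivedCategory.{w} A] [EnoughInjectives A] in
theorem exists_epi_cover {P : A → Prop} (hP : ∀ X : A, ∃ (Y : A) (p : Y ⟶ X), Epi p ∧ P Y)
    (X : CochainComplex A ℤ) :
    ∃ (J : ℤ → A) (_ : ∀ m, P (J m)) (q : disk J ⟶ X), Epi q := by
  choose Y p hp hY using hP
  let J : ℤ → A := fun m => Y (X.X (m - 1))
  let r : ∀ m k : ℤ, J m ⟶ X.X k := fun m k =>
    if h : m = k + 1 then p (X.X (m - 1)) ≫ eqToHom (congrArg X.X (by omega)) else 0
  let q : disk J ⟶ X :=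
    { f := fun m => (biprod.desc (r m (m - 1) ≫ X.d (m - 1) m) (r (m + 1) m) :
        J m ⊞ J (m + 1) ⟶ X.X m)
      comm' := fun i j hij => by
        obtain rfl : i + 1 = j := hij
        rw [disk_d]
        change (_ : J i ⊞ J (i + 1) ⟶ X.X (i + 1)) = _
        apply biprod.hom_ext'
        · simp
        · simp only [biprod.inr_desc_assoc, Category.assoc, biprod.inr_snd_assoc, biprod.inl_desc]
          have e : ∀ a b : ℤ, a = b → r (i + 1) a ≫ X.d a (i + 1) = r (i + 1) b ≫ X.d b (i + 1) := by
            rintro a b rfl; rfl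
          exact e _ _ (by omega) }
  haveI : ∀ m, Epi (q.f m) := fun m => by
    haveI : Epi (r (m + 1) m) := by
      simp only [r, dif_pos]
      haveI := hp (X.X (m + 1 - 1))
      exact epi_comp _ _
    exact epi_of_epi_fac (biprod.inr_desc (r m (m - 1) ≫ X.d (m - 1) m) (r (m + 1) m))
  exact ⟨J, fun m => hY _, q, HomologicalComplex.epi_of_epi_f _ inferInstance⟩

theorem isZero_map_biprod {C : Type*} [Category C] [Preadditive C] [HasBinaryBiproducts C]
    {D : Type*} [Category D] [Preadditive D] (G : C ⥤ D) [G.Additive] {X Y : C}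
    (hX : IsZero (G.obj X)) (hY : IsZero (G.obj Y)) : IsZero (G.obj (X ⊞ Y)) := by
  rw [IsZero.iff_id_eq_zero, ← G.map_id, ← biprod.total, G.map_add, G.map_comp, G.map_comp,
    hX.eq_of_src (G.map biprod.inl) 0, hY.eq_of_src (G.map biprod.inr) 0, comp_zero, comp_zero, add_zero]

theorem exists_res (hP : ∀ X : A, ∃ (Y : A) (p : Y ⟶ X), Epi p ∧
      ∀ i : ℕ, i < n → IsZero ((F.rightDerived i).obj Y)) :
    ∀ (d : ℕ) (X : CochainComplex A ℤ), LowVanish F (n - d) X →
      ∃ (L : CochainComplex A ℤ) (p : L ⟶ X), QuasiIso p ∧ Epi p ∧ LowVanish F n L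
  | 0, X, hX => ⟨X, 𝟙 X, inferInstance, inferInstance, fun i hi => hX i (by omega)⟩
  | d + 1, X, hX => by
    obtain ⟨J, hJ, q, hq⟩ := exists_epi_cover hP X
    have hJ' : ∀ i, i < n → ∀ m, IsZero ((F.rightDerived i).obj ((disk J).X m)) := by
      intro i hi m
      change IsZero ((F.rightDerived i).obj (J m ⊞ J (m + 1)))
      exact isZero_map_biprod (F.rightDerived i) (hJ m i hi) (hJ (m + 1) i hi)
    let S : ShortComplex (CochainComplex A ℤ) := ShortComplex.mk (kernel.ι q) q (kernel.condition q)
    have hS : S.ShortExact := { exact := ShortComplex.exact_kernel q }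
    have hK : LowVanish F (n - d) (kernel q) := by
      intro i hi m
      have hSm := hS.map_of_exact (evA A m)
      cases i with
      | zero => exact rz0 F hSm (hJ' 0 (by omega) m)
      | succ i => exact rz₁ F hSm i (hX i (by omega) m) (hJ' (i + 1) (by omega) m)
    obtain ⟨LK, r, hr, -, hLK⟩ := exists_res hP d (kernel q) hK
    let comp : CochainComplex.mappingCone (r ≫ kernel.ι q) ⟶ CochainComplex.mappingCone (kernel.ι q) :=
      CochainComplex.mappingCone.map (r ≫ kernel.ι q) (kernel.ι q) r (𝟙 _) (by simp)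
    have h1 : QuasiIso comp := by
      haveI := hr
      rw [← DerivedCategory.isIso_Q_map_iff_quasiIso]
      let φ := DerivedCategory.Q.mapTriangle.map
        (CochainComplex.mappingCone.triangleMap (r ≫ kernel.ι q) (kernel.ι q) r (𝟙 _) (by simp))
      have hd₁ : DerivedCategory.Q.mapTriangle.obj (CochainComplex.mappingCone.triangle (r ≫ kernel.ι q)) ∈
          distTriang (DerivedCategory A) :=
        (DerivedCategory.mem_distTriang_iff _).2 ⟨_, _, _, ⟨Iso.refl _⟩⟩
      have hd₂ : DerivedCategory.Q.mapTriangle.obj (CochainComplex.mappingCone.triangle (kernel.ι q)) ∈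
          distTriang (DerivedCategory A) :=
        (DerivedCategory.mem_distTriang_iff _).2 ⟨_, _, _, ⟨Iso.refl _⟩⟩
      have e1 : IsIso φ.hom₁ := (DerivedCategory.isIso_Q_map_iff_quasiIso _ r).2 hr
      have e2 : IsIso φ.hom₂ := inferInstanceAs (IsIso (DerivedCategory.Q.map (𝟙 (disk J))))
      exact Pretriangulated.isIso₃_of_isIso₁₂ φ hd₁ hd₂ e1 e2
    haveI : QuasiIso comp := h1
    haveI : QuasiIso (CochainComplex.mappingCone.descShortComplex S) :=
      CochainComplex.mappingCone.quasiIso_descShortComplex hS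
    refine ⟨CochainComplex.mappingCone (r ≫ kernel.ι q),
      comp ≫ CochainComplex.mappingCone.descShortComplex S, quasiIso_comp comp _, ?_, ?_⟩
    · refine epi_of_epi_fac (f := CochainComplex.mappingCone.inr (r ≫ kernel.ι q)) (h := q) ?_
      simp [comp, CochainComplex.mappingCone.map, S]
      exact CochainComplex.mappingCone.inr_descShortComplex S
    · intro i hi m
      refine IsZero.of_iso ?_ ((F.rightDerived i).mapIso
        (HomologicalComplex.homotopyCofiber.XIsoBiprod (r ≫ kernel.ι q) m (m + 1) rfl))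
      exact isZero_map_biprod (F.rightDerived i) (hLK i hi (m + 1)) (hJ' i hi m)

end Groth.Agent.LDerShiftLib
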