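import Groth.Agent.LDerShiftLib.RF
import Groth.Agent.LDerShiftLib.Res

/-!
# The left derived functor of `Rⁿ` is the shifted right derived functor
-/

set_option autoImplicit false
set_option backward.isDefEq.respectTransparency false
set_option backward.isDefEq.respectTransparency.types false
set_option linter.style.haveILetI false
set_option linter.unusedSectionVars false

universe w w' v u v' u'

open CategoryTheory CategoryTheory.Limits HomologicalComplex

namespace Groth.Agent.LDerShiftLib

variable {A : Type u} [Category.{v} A] [Abelian A] [EnoughInjectives A] [HasDerivedCategory.{w} A]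
  {B : Type u'} [Category.{v'} B] [Abelian B] [HasDerivedCategory.{w'} B]
  (F : A ⥤ B) [F.Additive] [PreservesFiniteLimits F] (n : ℕ)

/-- The functor to derive on the left. -/
noncomputable abbrev GFun : CochainComplex A ℤ ⥤ DerivedCategory B :=
  (F.rightDerived n).mapHomologicalComplex (ComplexShape.up ℤ) ⋙ DerivedCategory.Q

variable (hdim : ∀ (X : A) (i : ℕ), n < i → IsZero ((F.rightDerived i).obj X))
  [((mapC F) ⋙ DerivedCategory.Q).HasRightDerivedFunctor
    (HomologicalComplex.quasiIso A (ComplexShape.up ℤ))]

include hdim

theorem isIso_RUnit_cycles (L : CochainComplex A ℤ) : IsIso ((RUnit F).app ((jres L).cycles n)) :=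
  isIso_RUnit F n (fun X => hdim X (n + 1) (by omega)) _ (cosyzygy_acyclic F n hdim L)

/-- The candidate. -/
noncomputable abbrev LGFun : DerivedCategory A ⥤ DerivedCategory B :=
  shiftFunctor (DerivedCategory A) (n : ℤ) ⋙ RFun F

/-- The counit. -/
noncomputable def counit : DerivedCategory.Q ⋙ LGFun F n ⟶ GFun F n where
  app L := haveI := isIso_RUnit_cycles F n hdim L
    (RFun F).map (eShift L n).inv ≫ inv ((RUnit F).app ((jres L).cycles n)) ≫
      DerivedCategory.Q.map (toR F L n)
  naturality L L' φ := by
    haveI := isIso_RUnit_cycles F n hdim L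
    haveI := isIso_RUnit_cycles F n hdim L'
    have h1 : (DerivedCategory.Q.map φ)⟦(n : ℤ)⟧' ≫ (eShift L' n).inv =
        (eShift L n).inv ≫ DerivedCategory.Q.map (cyclesMap (jmap φ) n) := by
      rw [Iso.comp_inv_eq, Category.assoc, eShift_naturality, Iso.inv_hom_id_assoc]
    have h2 := (RUnit F).naturality (cyclesMap (jmap φ) n)
    simp only [Functor.comp_map] at h2
    have h3 : (RFun F).map (DerivedCategory.Q.map (cyclesMap (jmap φ) n)) ≫
        inv ((RUnit F).app ((jres L').cycles n)) =
          inv ((RUnit F).app ((jres L).cycles n)) ≫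
            DerivedCategory.Q.map ((mapC F).map (cyclesMap (jmap φ) n)) := by
      rw [IsIso.comp_inv_eq, Category.assoc, h2, IsIso.inv_hom_id_assoc]
    simp only [Functor.comp_map, Category.assoc]
    rw [← (RFun F).map_comp_assoc, h1, (RFun F).map_comp_assoc, reassoc_of% h3,
      ← DerivedCategory.Q.map_comp, toR_naturality, DerivedCategory.Q.map_comp]

theorem isIso_counit_app (L : CochainComplex A ℤ) (hL : LowVanish F n L) :
    IsIso ((counit F n hdim).app L) := by
  haveI := isIso_RUnit_cycles F n hdim L
  haveI := isIso_Q_toR F L n hL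
  dsimp only [counit]
  infer_instance

variable (hP : ∀ X : A, ∃ (Y : A) (p : Y ⟶ X), Epi p ∧
  ∀ i : ℕ, i < n → IsZero ((F.rightDerived i).obj Y))

omit hdim in
include hP in
theorem exists_res' (X : CochainComplex A ℤ) :
    ∃ (L : CochainComplex A ℤ) (p : L ⟶ X),
      IsIso (DerivedCategory.Q.map p) ∧ Epi p ∧ LowVanish F n L := by
  obtain ⟨L, p, hp, he, hL⟩ := exists_res F n hP n X (fun i hi => absurd hi (by omega))
  exact ⟨L, p, (DerivedCategory.isIso_Q_map_iff_quasiIso _ p).2 hp, he, hL⟩

omit hdim [EnoughInjectives A] in
theorem isIso_Q_pullback_fst {L X L' : CochainComplex A ℤ} (f : L ⟶ X) (p : L' ⟶ X) [Epi p]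
    [IsIso (DerivedCategory.Q.map p)] : IsIso (DerivedCategory.Q.map (pullback.fst f p)) := by
  let S : ShortComplex (CochainComplex A ℤ) := ShortComplex.mk (kernel.ι p) p (kernel.condition p)
  have hS : S.ShortExact := { exact := ShortComplex.exact_kernel p }
  have hZ : IsZero (DerivedCategory.Q.obj (kernel p)) :=
    ((DerivedCategory.triangleOfSES hS).isZero₁_iff_isIso₂
      (DerivedCategory.triangleOfSES_distinguished hS)).2 ‹_›
  let T : ShortComplex (CochainComplex A ℤ) := ShortComplex.mk
    (pullback.lift (0 : kernel p ⟶ L) (kernel.ι p) (by simp)) (pullback.fst f p)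
    (pullback.lift_fst _ _ _)
  haveI hm : Mono T.f :=
    mono_of_mono_fac (pullback.lift_snd (0 : kernel p ⟶ L) (kernel.ι p) (by simp : _ ≫ f = _ ≫ p))
  have hT : T.ShortExact :=
    { exact := by
        refine ShortComplex.exact_of_f_is_kernel _ (KernelFork.IsLimit.ofι' _ _ (fun x hx => ?_))
        refine ⟨kernel.lift p (x ≫ pullback.snd f p) ?_, ?_⟩
        · rw [Category.assoc, ← pullback.condition, reassoc_of% hx, zero_comp]
        · apply pullback.hom_ext <;> simp [T, hx]
      mono_f := hm
      epi_g := inferInstanceAs (Epi (pullback.fst f p)) }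
  exact ((DerivedCategory.triangleOfSES hT).isZero₁_iff_isIso₂
    (DerivedCategory.triangleOfSES_distinguished hT)).1 hZ

include hP in
theorem isRightKanExtension_counit : (LGFun F n).IsRightKanExtension (counit F n hdim) := by
  have hQ := Localization.full_whiskeringLeft (DerivedCategory.Q (C := A))
    (HomologicalComplex.quasiIso A (ComplexShape.up ℤ)) (DerivedCategory B)
  have hQ' := Localization.faithful_whiskeringLeft (DerivedCategory.Q (C := A))
    (HomologicalComplex.quasiIso A (ComplexShape.up ℤ)) (DerivedCategory B)
  choose res p hp hep hres using exists_res' F n hP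
  have key : ∀ (H : DerivedCategory A ⥤ DerivedCategory B) (β : DerivedCategory.Q ⋙ H ⟶ GFun F n),
      ∃! γ : H ⟶ LGFun F n, Functor.whiskerLeft DerivedCategory.Q γ ≫ counit F n hdim = β := by
    intro H β
    have hα : ∀ L, LowVanish F n L → IsIso ((counit F n hdim).app L) := isIso_counit_app F n hdim
    have hαi : ∀ X, IsIso ((counit F n hdim).app (res X)) := fun X => hα _ (hres X)
    let θ : ∀ L, LowVanish F n L →
        (H.obj (DerivedCategory.Q.obj L) ⟶ (LGFun F n).obj (DerivedCategory.Q.obj L)) := fun L hL =>
      haveI := hα L hL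
      β.app L ≫ inv ((counit F n hdim).app L)
    have θnat : ∀ {L L' : CochainComplex A ℤ} (hL : LowVanish F n L) (hL' : LowVanish F n L')
        (g : L ⟶ L'), H.map (DerivedCategory.Q.map g) ≫ θ L' hL' =
          θ L hL ≫ (LGFun F n).map (DerivedCategory.Q.map g) := by
      intro L L' hL hL' g
      haveI := hα L hL
      haveI := hα L' hL'
      have e1 := β.naturality g
      have e2 := (counit F n hdim).naturality g
      simp only [Functor.comp_map] at e1 e2
      simp only [θ, Category.assoc]
      rw [reassoc_of% e1]
      congr 1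
      rw [IsIso.comp_inv_eq, Category.assoc]
      simp only [Functor.comp_map]
      rw [e2, IsIso.inv_hom_id_assoc]
    let γ' : DerivedCategory.Q ⋙ H ⟶ DerivedCategory.Q ⋙ LGFun F n :=
      { app := fun X => haveI := hp X
          inv (H.map (DerivedCategory.Q.map (p X))) ≫ θ (res X) (hres X) ≫
            (LGFun F n).map (DerivedCategory.Q.map (p X))
        naturality := fun X X' f => by
          haveI := hp X
          haveI := hp X'
          haveI := hep X'
          haveI := isIso_Q_pullback_fst (p X ≫ f) (p X')
          obtain ⟨L'', r, hr, -, hL''⟩ := exists_res' F n hP (pullback (p X ≫ f) (p X'))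
          let a := r ≫ pullback.fst (p X ≫ f) (p X')
          let b := r ≫ pullback.snd (p X ≫ f) (p X')
          have hab : a ≫ p X ≫ f = b ≫ p X' := by
            simp only [a, b, Category.assoc, pullback.condition]
          haveI : IsIso (DerivedCategory.Q.map a) := by simp only [a, Functor.map_comp]; infer_instance
          have habQ : DerivedCategory.Q.map a ≫ DerivedCategory.Q.map (p X) ≫ DerivedCategory.Q.map f =
              DerivedCategory.Q.map b ≫ DerivedCategory.Q.map (p X') := by
            simp only [← Functor.map_comp, hab]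
          have habH := congrArg H.map habQ
          have habL := congrArg (LGFun F n).map habQ
          simp only [Functor.map_comp] at habH habL
          rw [← cancel_epi (H.map (DerivedCategory.Q.map a) ≫ H.map (DerivedCategory.Q.map (p X)))]
          simp only [Functor.comp_map, Category.assoc, IsIso.hom_inv_id_assoc]
          rw [reassoc_of% habH, IsIso.hom_inv_id_assoc, reassoc_of% (θnat hL'' (hres X') b),
            reassoc_of% (θnat hL'' (hres X) a)]
          exact congrArg (θ L'' hL'' ≫ ·) habL.symm }
    obtain ⟨γ, hγ⟩ := hQ.map_surjective γ'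
    have hγ' : ∀ X, γ.app (DerivedCategory.Q.obj X) = γ'.app X := fun X => congr_app hγ X
    refine ⟨γ, ?_, fun δ hδ => hQ'.map_injective ?_⟩
    · ext X
      haveI := hp X
      haveI := hαi X
      have e1 := β.naturality (p X)
      have e2 := (counit F n hdim).naturality (p X)
      simp only [Functor.comp_map] at e1 e2
      simp only [NatTrans.comp_app, Functor.whiskerLeft_app, hγ', γ', θ, Category.assoc,
        IsIso.inv_comp_eq]
      simp only [Functor.comp_map]
      rw [e1, e2, IsIso.inv_hom_id_assoc]
    · ext X
      change δ.app (DerivedCategory.Q.obj X) = γ.app (DerivedCategory.Q.obj X)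
      rw [hγ']
      haveI := hp X
      haveI := hαi X
      have e := congr_app hδ (res X)
      simp only [NatTrans.comp_app, Functor.whiskerLeft_app] at e
      simp only [γ', IsIso.eq_inv_comp]
      rw [δ.naturality]
      congr 1
      simp only [θ]
      rw [IsIso.eq_comp_inv]
      exact e
  choose γ hγ huniq using key
  exact ⟨⟨IsTerminal.ofUniqueHom (fun Y => CostructuredArrow.homMk (γ Y.left Y.hom) (hγ Y.left Y.hom))
    (fun Y m => by
      apply CostructuredArrow.hom_ext
      exact huniq Y.left Y.hom m.left (CostructuredArrow.w m))⟩⟩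

end Groth.Agent.LDerShiftLib
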