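import Groth.Agent.LDerShiftLib.Step

/-!
# The right derived functor on complexes: values on acyclic complexes, shift
-/

set_option autoImplicit false
set_option backward.isDefEq.respectTransparency false
set_option backward.isDefEq.respectTransparency.types false
set_option linter.style.haveILetI false
set_option linter.unusedSectionVars false

universe w w' v u v' u'

open CategoryTheory CategoryTheory.Limits HomologicalComplex DerivedCategory

namespace Groth.Agent.LDerShiftLib

variable {A : Type u} [Category.{v} A] [Abelian A] [EnoughInjectives A] [HasDerivedCategory.{w} A]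
  {B : Type u'} [Category.{v'} B] [Abelian B] [HasDerivedCategory.{w'} B]
  (F : A ⥤ B) [F.Additive] [PreservesFiniteLimits F]
  (n : ℕ) (hn : ∀ X : A, IsZero ((F.rightDerived (n + 1)).obj X))
  [((mapC F) ⋙ Q).HasRightDerivedFunctor (HomologicalComplex.quasiIso A (ComplexShape.up ℤ))]

/-- The derived functor on complexes. -/
noncomputable abbrev RFun : DerivedCategory A ⥤ DerivedCategory B :=
  (mapC F ⋙ Q).totalRightDerived Q (HomologicalComplex.quasiIso A (ComplexShape.up ℤ))

/-- Its unit. -/
noncomputable abbrev RUnit : mapC F ⋙ Q ⟶ Q ⋙ RFun F :=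
  (mapC F ⋙ Q).totalRightDerivedUnit Q (HomologicalComplex.quasiIso A (ComplexShape.up ℤ))

/-- The two incarnations of `F` on complexes agree. -/
noncomputable def mapCQIso :
    HomotopyCategory.quotient A (ComplexShape.up ℤ) ⋙ F.mapHomotopyCategory (ComplexShape.up ℤ) ⋙ Qh ≅
      mapC F ⋙ Q :=
  (Functor.associator _ _ _).symm ≪≫
    Functor.isoWhiskerRight (F.mapHomotopyCategoryFactors (ComplexShape.up ℤ)) Qh ≪≫
    Functor.associator _ _ _ ≪≫ Functor.isoWhiskerLeft (mapC F) (quotientCompQhIso B)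

/-- The unit on complexes obtained from a unit on the homotopy category. -/
noncomputable def transferUnit {R : DerivedCategory A ⥤ DerivedCategory B}
    (ηh : F.mapHomotopyCategory (ComplexShape.up ℤ) ⋙ Qh ⟶ Qh ⋙ R) : mapC F ⋙ Q ⟶ Q ⋙ R :=
  (mapCQIso F).inv ≫ Functor.whiskerLeft (HomotopyCategory.quotient A (ComplexShape.up ℤ)) ηh ≫
    (Functor.associator _ _ _).inv ≫ Functor.whiskerRight (quotientCompQhIso A).hom R

omit [((mapC F) ⋙ Q).HasRightDerivedFunctor (HomologicalComplex.quasiIso A (ComplexShape.up ℤ))] in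
theorem transferUnit_app {R : DerivedCategory A ⥤ DerivedCategory B}
    (ηh : F.mapHomotopyCategory (ComplexShape.up ℤ) ⋙ Qh ⟶ Qh ⋙ R) (K : CochainComplex A ℤ) :
    (transferUnit F ηh).app K = (mapCQIso F).inv.app K ≫
      ηh.app ((HomotopyCategory.quotient A (ComplexShape.up ℤ)).obj K) ≫
        R.map ((quotientCompQhIso A).hom.app K) := by
  simp [transferUnit]

omit [((mapC F) ⋙ Q).HasRightDerivedFunctor (HomologicalComplex.quasiIso A (ComplexShape.up ℤ))] in
theorem isRightDerived_transfer (R : DerivedCategory A ⥤ DerivedCategory B)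
    (ηh : F.mapHomotopyCategory (ComplexShape.up ℤ) ⋙ Qh ⟶ Qh ⋙ R)
    [R.IsRightDerivedFunctor ηh (HomotopyCategory.quasiIso A (ComplexShape.up ℤ))] :
    R.IsRightDerivedFunctor (transferUnit F ηh) (HomologicalComplex.quasiIso A (ComplexShape.up ℤ)) := by
  let W := HomologicalComplex.homotopyEquivalences A (ComplexShape.up ℤ)
  let quot := HomotopyCategory.quotient A (ComplexShape.up ℤ)
  letI : Localization.Lifting quot W (mapC F ⋙ Q) (F.mapHomotopyCategory (ComplexShape.up ℤ) ⋙ Qh) :=
    ⟨mapCQIso F⟩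
  have key : ∀ (G : DerivedCategory A ⥤ DerivedCategory B) (τ : mapC F ⋙ Q ⟶ Q ⋙ G),
      ∃! γ : R ⟶ G, transferUnit F ηh ≫ Functor.whiskerLeft Q γ = τ := by
    intro G τ
    letI : Localization.Lifting quot W (Q ⋙ G) (Qh ⋙ G) :=
      ⟨(Functor.associator _ _ _).symm ≪≫ Functor.isoWhiskerRight (quotientCompQhIso A) G⟩
    let β : F.mapHomotopyCategory (ComplexShape.up ℤ) ⋙ Qh ⟶ Qh ⋙ G :=
      Localization.liftNatTrans quot W (mapC F ⋙ Q) (Q ⋙ G) _ _ τ
    have e2 : ∀ K, β.app (quot.obj K) = (mapCQIso F).hom.app K ≫ τ.app K ≫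
        G.map ((quotientCompQhIso A).inv.app K) := fun K => by
      change (Localization.liftNatTrans quot W (mapC F ⋙ Q) (Q ⋙ G) _ _ τ).app _ = _
      rw [Localization.liftNatTrans_app]
      change (mapCQIso F).hom.app K ≫ τ.app K ≫
        ((Functor.associator _ _ _).symm ≪≫ Functor.isoWhiskerRight (quotientCompQhIso A) G).inv.app K = _
      simp
    let γ : R ⟶ G := R.rightDerivedDesc ηh (HomotopyCategory.quasiIso A (ComplexShape.up ℤ)) G β
    have hv : ∀ K, ηh.app (quot.obj K) ≫ γ.app (Qh.obj (quot.obj K)) = β.app (quot.obj K) := fun K =>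
      R.rightDerived_fac_app ηh _ G β (quot.obj K)
    refine ⟨γ, ?_, fun δ hδ => ?_⟩
    · ext K
      simp only [NatTrans.comp_app, Functor.whiskerLeft_app, transferUnit_app, Category.assoc]
      erw [γ.naturality ((quotientCompQhIso A).hom.app K)]
      erw [reassoc_of% (hv K)]
      rw [e2]
      simp [← Functor.map_comp, quot]
    · refine R.rightDerived_ext ηh (HomotopyCategory.quasiIso A (ComplexShape.up ℤ)) _ _ _ ?_
      refine NatTrans.ext (funext fun X => ?_)
      obtain ⟨K, rfl⟩ := HomotopyCategory.quotient_obj_surjective X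
      have e := congr_app hδ K
      simp only [NatTrans.comp_app, Functor.whiskerLeft_app, transferUnit_app, Category.assoc] at e
      erw [δ.naturality ((quotientCompQhIso A).hom.app K)] at e
      simp only [NatTrans.comp_app, Functor.whiskerLeft_app]
      refine Eq.trans ?_ (hv K).symm
      rw [e2, ← e]
      simp [← Functor.map_comp, quot]
  choose γ hγ huniq using key
  exact ⟨⟨⟨IsInitial.ofUniqueHom (fun Y => StructuredArrow.homMk (γ Y.right Y.hom) (hγ Y.right Y.hom))
    (fun Y m => by
      apply StructuredArrow.hom_ext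
      exact huniq Y.right Y.hom m.right (StructuredArrow.w m))⟩⟩⟩

include hn

omit [((mapC F) ⋙ Q).HasRightDerivedFunctor (HomologicalComplex.quasiIso A (ComplexShape.up ℤ))] in
theorem hasRightDerivedFunctor_complexes :
    ((mapC F) ⋙ Q).HasRightDerivedFunctor (HomologicalComplex.quasiIso A (ComplexShape.up ℤ)) := by
  haveI := Groth.Agent.AcycResLib.hasRightDerivedFunctor F (n + 1) hn
  haveI := isRightDerived_transfer F
    ((F.mapHomotopyCategory (ComplexShape.up ℤ) ⋙ Qh).totalRightDerived Qh
      (HomotopyCategory.quasiIso A (ComplexShape.up ℤ)))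
    ((F.mapHomotopyCategory (ComplexShape.up ℤ) ⋙ Qh).totalRightDerivedUnit Qh
      (HomotopyCategory.quasiIso A (ComplexShape.up ℤ)))
  exact Functor.HasRightDerivedFunctor.mk' _
    (transferUnit F ((F.mapHomotopyCategory (ComplexShape.up ℤ) ⋙ Qh).totalRightDerivedUnit Qh
      (HomotopyCategory.quasiIso A (ComplexShape.up ℤ))))

theorem isIso_RUnit (K : CochainComplex A ℤ)
    (hK : ∀ (m : ℤ) (i : ℕ), 0 < i → IsZero ((F.rightDerived i).obj (K.X m))) :
    IsIso ((RUnit F).app K) := by
  haveI := Groth.Agent.AcycResLib.hasRightDerivedFunctor F (n + 1) hn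
  let Rh := (F.mapHomotopyCategory (ComplexShape.up ℤ) ⋙ Qh).totalRightDerived Qh
    (HomotopyCategory.quasiIso A (ComplexShape.up ℤ))
  let ηh := (F.mapHomotopyCategory (ComplexShape.up ℤ) ⋙ Qh).totalRightDerivedUnit Qh
    (HomotopyCategory.quasiIso A (ComplexShape.up ℤ))
  haveI h0 : IsIso (ηh.app ((HomotopyCategory.quotient A (ComplexShape.up ℤ)).obj K)) :=
    Groth.Agent.AcycResLib.isIso_unit F (n + 1) hn K hK
  haveI := isRightDerived_transfer F Rh ηh
  let uu := Rh.rightDerivedUnique (RFun F) (transferUnit F ηh) (RUnit F)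
    (HomologicalComplex.quasiIso A (ComplexShape.up ℤ))
  haveI : IsIso ((transferUnit F ηh).app K) := by rw [transferUnit_app]; infer_instance
  have e : (transferUnit F ηh).app K ≫ uu.hom.app (Q.obj K) = (RUnit F).app K := by
    exact (Rh.rightDerivedNatTrans_app (RFun F) (transferUnit F ηh) (RUnit F) (HomologicalComplex.quasiIso A (ComplexShape.up ℤ)) (𝟙 _) K).trans (Category.id_comp _)
  rw [← e]
  infer_instance

/-- The derived functor commutes with shifts. -/
theorem exists_shift_iso (k : ℤ) :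
    Nonempty (RFun F ≅
      (shiftFunctor (DerivedCategory A) k ⋙ RFun F) ⋙ shiftFunctor (DerivedCategory B) (-k)) := by
  let G := (shiftFunctor (DerivedCategory A) k ⋙ RFun F) ⋙ shiftFunctor (DerivedCategory B) (-k)
  let β : mapC F ⋙ Q ⟶ Q ⋙ G :=
    Functor.whiskerLeft (mapC F ⋙ Q) (shiftEquiv (DerivedCategory B) k).unitIso.hom ≫
      Functor.whiskerRight ((mapC F ⋙ Q).commShiftIso k).inv (shiftFunctor (DerivedCategory B) (-k)) ≫
      Functor.whiskerRight (Functor.whiskerLeft (shiftFunctor (CochainComplex A ℤ) k) (RUnit F))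
        (shiftFunctor (DerivedCategory B) (-k)) ≫
      Functor.whiskerRight (Functor.whiskerRight ((Q : CochainComplex A ℤ ⥤ _).commShiftIso k).hom (RFun F))
        (shiftFunctor (DerivedCategory B) (-k))
  let s : RFun F ⟶ G :=
    (RFun F).rightDerivedDesc (RUnit F) (HomologicalComplex.quasiIso A (ComplexShape.up ℤ)) G β
  have hs : ∀ K : CochainComplex A ℤ, (RUnit F).app K ≫ s.app (Q.obj K) = β.app K := fun K =>
    (RFun F).rightDerived_fac_app (RUnit F) _ G β K
  haveI : HasInjectiveResolutions A := inferInstance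
  have hiso : ∀ Z : DerivedCategory A, IsIso (s.app Z) := by
    intro Z
    obtain ⟨K0, ⟨e0⟩⟩ : ∃ K : CochainComplex A ℤ, Nonempty (Q.obj K ≅ Z) :=
      ⟨_, ⟨Q.objObjPreimageIso Z⟩⟩
    obtain ⟨I, f, hf, hI⟩ := Groth.Agent.AcycResLib.exists_quasiIso_acyclic F (n + 1) hn K0
    have hI' : ∀ (m : ℤ) (i : ℕ), 0 < i → IsZero ((F.rightDerived i).obj (I.X m)) := fun m =>
      (SpSeqLib.isSAcyclic_iff F (I.X m)).1 (hI m)
    haveI := hf
    haveI : IsIso (Q.map f) := (DerivedCategory.isIso_Q_map_iff_quasiIso _ f).2 inferInstance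
    haveI := isIso_RUnit F n hn I hI'
    haveI := isIso_RUnit F n hn (I⟦k⟧) (fun m => hI' _)
    haveI : IsIso (β.app I) := by
      simp only [β, NatTrans.comp_app, Functor.whiskerLeft_app, Functor.whiskerRight_app]
      infer_instance
    haveI : IsIso ((RUnit F).app I ≫ s.app (Q.obj I)) := by rw [hs]; infer_instance
    haveI : IsIso (s.app (Q.obj I)) := IsIso.of_isIso_comp_left ((RUnit F).app I) _
    exact (NatTrans.isIso_app_iff_of_iso s ((asIso (Q.map f)).symm ≪≫ e0)).1 inferInstance
  haveI := NatIso.isIso_of_isIso_app s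
  exact ⟨asIso s⟩

end Groth.Agent.LDerShiftLib
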