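import Groth.Agent.LDerShiftLib.Eval
import Groth.Agent.AcycResLib.Acyclic

/-!
# The comparison between a complex, its shifted cosyzygy and `Rⁿ`
-/

set_option autoImplicit false
set_option backward.isDefEq.respectTransparency false
set_option backward.isDefEq.respectTransparency.types false
set_option linter.style.haveILetI false
set_option linter.unusedSectionVars false

universe w w' v u v' u'

open CategoryTheory CategoryTheory.Limits CategoryTheory.Pretriangulated HomologicalComplex

namespace Groth.Agent.LDerShiftLib

section Zero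

variable {A : Type u} [Category.{v} A] [Abelian A] [HasDerivedCategory.{w} A]

theorem isZero_Q_obj {M : CochainComplex A ℤ} (hM : M.Acyclic) : IsZero (DerivedCategory.Q.obj M) := by
  obtain ⟨Z, hZ⟩ := HasZeroObject.zero (C := CochainComplex A ℤ)
  haveI : QuasiIso (0 : M ⟶ Z) := by
    constructor
    intro m
    rw [quasiIsoAt_iff_isIso_homologyMap]
    refine isIso_of_source_target_iso_zero _ ((exactAt_iff_isZero_homology _ _).1 (hM m)).isoZero ?_
    exact ((HomologicalComplex.homologyFunctor A (ComplexShape.up ℤ) m).map_isZero hZ).isoZero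
  exact (DerivedCategory.Q.map_isZero hZ).of_iso
    (@asIso _ _ _ _ (DerivedCategory.Q.map (0 : M ⟶ Z))
      ((DerivedCategory.isIso_Q_map_iff_quasiIso _ _).2 inferInstance))

theorem isIso_δ {S : ShortComplex (CochainComplex A ℤ)} (hS : S.ShortExact) (h₂ : S.X₂.Acyclic) :
    IsIso (DerivedCategory.triangleOfSESδ hS) :=
  ((DerivedCategory.triangleOfSES hS).isZero₂_iff_isIso₃
    (DerivedCategory.triangleOfSES_distinguished hS)).1 (isZero_Q_obj h₂)

theorem isIso_Q_map_g {S : ShortComplex (CochainComplex A ℤ)} (hS : S.ShortExact) (h₁ : S.X₁.Acyclic) :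
    IsIso (DerivedCategory.Q.map S.g) :=
  ((DerivedCategory.triangleOfSES hS).isZero₁_iff_isIso₂
    (DerivedCategory.triangleOfSES_distinguished hS)).1 (isZero_Q_obj h₁)

omit [HasDerivedCategory.{w} A] in
theorem acyclic_X₃ {S : ShortComplex (CochainComplex A ℤ)} (hS : S.ShortExact) (h₁ : S.X₁.Acyclic)
    (h₂ : S.X₂.Acyclic) : S.X₃.Acyclic := by
  intro m
  rw [exactAt_iff_isZero_homology]
  exact (hS.homology_exact₃ m (m + 1) (by simp)).isZero_of_both_zeros
    (((exactAt_iff_isZero_homology _ _).1 (h₂ m)).eq_of_src _ _)
    (((exactAt_iff_isZero_homology _ _).1 (h₁ (m + 1))).eq_of_tgt _ _)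

end Zero

section Step

variable {A : Type u} [Category.{v} A] [Abelian A] [EnoughInjectives A] [HasDerivedCategory.{w} A]

/-- The cocomplex of the chosen injective resolution of a complex. -/
noncomputable abbrev jres (L : CochainComplex A ℤ) : CochainComplex (CochainComplex A ℤ) ℕ :=
  (injectiveResolution L).cocomplex

/-- The chosen lift of a morphism. -/
noncomputable abbrev jmap {L L' : CochainComplex A ℤ} (φ : L ⟶ L') : jres L ⟶ jres L' :=
  InjectiveResolution.desc φ (injectiveResolution L') (injectiveResolution L)

omit [HasDerivedCategory.{w} A] in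
theorem jres_shortExact (L : CochainComplex A ℤ) (k : ℕ) :
    (AcycResLib.cyclesSC (jres L) k (k + 1)).ShortExact := by
  refine AcycResLib.cyclesSC_shortExact _ _ _ (by simp) (by simp) ?_
  rw [exactAt_iff_isZero_homology]
  refine IsZero.of_iso ?_ (@asIso _ _ _ _ (homologyMap (injectiveResolution L).ι (k + 1))
    inferInstance).symm
  exact HomologicalComplex.isZero_single_obj_homology _ _ _ _ (by simp)

theorem isIso_jδ (L : CochainComplex A ℤ) (k : ℕ) :
    IsIso (DerivedCategory.triangleOfSESδ (jres_shortExact L k)) :=
  isIso_δ _ (acyclic_of_injective ((jres L).X k))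

/-- The identification of `L` with the zeroth cycles. -/
noncomputable def toCycles0 (L : CochainComplex A ℤ) : L ⟶ (jres L).cycles 0 :=
  (jres L).liftCycles ((injectiveResolution L).ι.f 0) 1 (by simp)
    (InjectiveResolution.ι_f_zero_comp_complex_d _)

omit [HasDerivedCategory.{w} A] in
theorem toCycles0_iCycles (L : CochainComplex A ℤ) :
    toCycles0 L ≫ (jres L).iCycles 0 = (injectiveResolution L).ι.f 0 :=
  (jres L).liftCycles_i _ _ _ _

omit [HasDerivedCategory.{w} A] in
theorem isIso_toCycles0 (L : CochainComplex A ℤ) : IsIso (toCycles0 L) := by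
  have h := IsLimit.conePointUniqueUpToIso_hom_comp (injectiveResolution L).isLimitKernelFork
    ((jres L).cyclesIsKernel 0 1 (by simp)) WalkingParallelPair.zero
  have e : ((injectiveResolution L).isLimitKernelFork.conePointUniqueUpToIso
      ((jres L).cyclesIsKernel 0 1 (by simp))).hom = toCycles0 L := by
    refine (cancel_mono ((jres L).iCycles 0)).1 ?_
    exact h.trans (toCycles0_iCycles L).symm
  rw [← e]
  infer_instance

omit [HasDerivedCategory.{w} A] in
theorem toCycles0_naturality {L L' : CochainComplex A ℤ} (φ : L ⟶ L') :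
    toCycles0 L ≫ cyclesMap (jmap φ) 0 = φ ≫ toCycles0 L' := by
  rw [← cancel_mono ((jres L').iCycles 0), Category.assoc, Category.assoc, cyclesMap_i,
    toCycles0_iCycles, ← Category.assoc, toCycles0_iCycles]
  exact InjectiveResolution.desc_commutes_zero φ _ _

/-- The connecting isomorphisms, composed. -/
noncomputable def eShift (L : CochainComplex A ℤ) : ∀ k : ℕ,
    DerivedCategory.Q.obj ((jres L).cycles k) ≅ (DerivedCategory.Q.obj L)⟦(k : ℤ)⟧
  | 0 => haveI := isIso_toCycles0 L
      (DerivedCategory.Q.mapIso (asIso (toCycles0 L))).symm ≪≫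
        (shiftFunctorZero (DerivedCategory A) ℤ).symm.app _
  | k + 1 => haveI := isIso_jδ L k
      asIso (DerivedCategory.triangleOfSESδ (jres_shortExact L k)) ≪≫
        (shiftFunctor _ (1 : ℤ)).mapIso (eShift L k) ≪≫
        (shiftFunctorAdd' (DerivedCategory A) (k : ℤ) 1 ((k + 1 : ℕ) : ℤ) (by simp)).symm.app _

theorem eShift_naturality {L L' : CochainComplex A ℤ} (φ : L ⟶ L') : ∀ k : ℕ,
    DerivedCategory.Q.map (cyclesMap (jmap φ) k) ≫ (eShift L' k).hom =
      (eShift L k).hom ≫ (DerivedCategory.Q.map φ)⟦(k : ℤ)⟧'
  | 0 => by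
    haveI := isIso_toCycles0 L
    haveI := isIso_toCycles0 L'
    simp only [eShift, Iso.trans_hom, Iso.symm_hom, Functor.mapIso_inv, asIso_inv, Iso.app_hom,
      Category.assoc]
    have h := (shiftFunctorZero (DerivedCategory A) ℤ).inv.naturality (DerivedCategory.Q.map φ)
    simp only [Functor.id_map] at h
    erw [← h]
    rw [← Category.assoc, ← Category.assoc, ← Functor.map_comp, ← Functor.map_comp]
    congr 2
    rw [IsIso.eq_inv_comp, ← Category.assoc, IsIso.comp_inv_eq]
    exact toCycles0_naturality φ
  | k + 1 => by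
    haveI := isIso_jδ L k
    haveI := isIso_jδ L' k
    let Φ : AcycResLib.cyclesSC (jres L) k (k + 1) ⟶ AcycResLib.cyclesSC (jres L') k (k + 1) :=
      ShortComplex.homMk (cyclesMap (jmap φ) k) ((jmap φ).f k) (cyclesMap (jmap φ) (k + 1))
        (cyclesMap_i _ _) (by
          change (jmap φ).f k ≫ (jres L').toCycles k (k + 1) =
            (jres L).toCycles k (k + 1) ≫ cyclesMap (jmap φ) (k + 1)
          rw [← cancel_mono ((jres L').iCycles (k + 1)), Category.assoc, Category.assoc, toCycles_i,
            cyclesMap_i, toCycles_i_assoc]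
          exact (jmap φ).comm k (k + 1))
    have hδ := DerivedCategory.triangleOfSESδ_naturality (jres_shortExact L k) (jres_shortExact L' k) Φ
    simp only [eShift, Iso.trans_hom, asIso_hom, Functor.mapIso_hom, Iso.app_hom, Iso.symm_hom,
      Category.assoc]
    have ih := congrArg (fun z => (shiftFunctor (DerivedCategory A) (1 : ℤ)).map z)
      (eShift_naturality φ k)
    simp only [Functor.map_comp] at ih
    have h := (shiftFunctorAdd' (DerivedCategory A) (k : ℤ) 1 ((k + 1 : ℕ) : ℤ) (by simp)).inv.naturality
      (DerivedCategory.Q.map φ)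
    simp only [Functor.comp_map] at h
    erw [← reassoc_of% hδ, reassoc_of% ih, h]

end Step

section Proj

variable {A : Type u} [Category.{v} A] [Abelian A] [EnoughInjectives A]
  {B : Type u'} [Category.{v'} B] [Abelian B] (F : A ⥤ B) [F.Additive] [PreservesFiniteLimits F]

/-- `F` of the cosyzygy maps to `Rᵏ`. -/
noncomputable def toR (L : CochainComplex A ℤ) (k : ℕ) :
    (mapC F).obj ((jres L).cycles k) ⟶
      ((F.rightDerived k).mapHomologicalComplex (ComplexShape.up ℤ)).obj L :=
  (((mapC F).mapHomologicalComplex (ComplexShape.up ℕ)).obj (jres L)).liftCycles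
      ((mapC F).map ((jres L).iCycles k)) (k + 1) (by simp)
      (by simp [← Functor.map_comp]) ≫
    (((mapC F).mapHomologicalComplex (ComplexShape.up ℕ)).obj (jres L)).homologyπ k ≫
    ((injectiveResolution L).isoRightDerivedObj (mapC F) k).inv ≫
    (rightDerivedMapIso F k).hom.app L

theorem toR_naturality {L L' : CochainComplex A ℤ} (φ : L ⟶ L') (k : ℕ) :
    (mapC F).map (cyclesMap (jmap φ) k) ≫ toR F L' k =
      toR F L k ≫ ((F.rightDerived k).mapHomologicalComplex (ComplexShape.up ℤ)).map φ := by
  let g := ((mapC F).mapHomologicalComplex (ComplexShape.up ℕ)).map (jmap φ)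
  have h1 : (mapC F).map (cyclesMap (jmap φ) k) ≫
      (((mapC F).mapHomologicalComplex (ComplexShape.up ℕ)).obj (jres L')).liftCycles
        ((mapC F).map ((jres L').iCycles k)) (k + 1) (by simp) (by simp [← Functor.map_comp]) =
      (((mapC F).mapHomologicalComplex (ComplexShape.up ℕ)).obj (jres L)).liftCycles
        ((mapC F).map ((jres L).iCycles k)) (k + 1) (by simp) (by simp [← Functor.map_comp]) ≫
        cyclesMap g k := by
    rw [← cancel_mono (iCycles _ k), Category.assoc, Category.assoc, liftCycles_i, cyclesMap_i,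
      liftCycles_i_assoc]
    simp only [g, Functor.mapHomologicalComplex_map_f, ← Functor.map_comp, cyclesMap_i]
  have h2 := InjectiveResolution.isoRightDerivedObj_inv_naturality φ (injectiveResolution L)
    (injectiveResolution L') (jmap φ) (InjectiveResolution.desc_commutes_zero φ _ _) (mapC F) k
  have h3 := (rightDerivedMapIso F k).hom.naturality φ
  simp only [toR, Category.assoc]
  rw [reassoc_of% h1, ← homologyπ_naturality_assoc, ← h3]
  simp only [Functor.comp_map] at h2
  erw [reassoc_of% h2]
  rfl

theorem isIso_liftCycles (L : CochainComplex A ℤ) (k : ℕ) :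
    IsIso ((((mapC F).mapHomologicalComplex (ComplexShape.up ℕ)).obj (jres L)).liftCycles
      ((mapC F).map ((jres L).iCycles k)) (k + 1) (by simp) (by simp [← Functor.map_comp])) := by
  let K := ((mapC F).mapHomologicalComplex (ComplexShape.up ℕ)).obj (jres L)
  have hl := isLimitForkMapOfIsLimit' (mapC F) _ ((jres L).cyclesIsKernel k (k + 1) (by simp))
  have hK := K.cyclesIsKernel k (k + 1) (by simp)
  have h := IsLimit.conePointUniqueUpToIso_hom_comp hl hK WalkingParallelPair.zero
  have e : (hl.conePointUniqueUpToIso hK).hom = K.liftCycles ((mapC F).map ((jres L).iCycles k)) (k + 1)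
      (by simp) (by simp [K, ← Functor.map_comp]) := by
    rw [← cancel_mono (K.iCycles k), liftCycles_i]
    exact h
  rw [← e]
  infer_instance

variable [HasDerivedCategory.{w'} B]

theorem isIso_Q_toR (L : CochainComplex A ℤ) (n : ℕ)
    (h : ∀ i, i < n → ∀ m, IsZero ((F.rightDerived i).obj (L.X m))) :
    IsIso (DerivedCategory.Q.map (toR F L n)) := by
  let K := ((mapC F).mapHomologicalComplex (ComplexShape.up ℕ)).obj (jres L)
  have hX : ∀ j, (K.X j).Acyclic := fun j => acyclic_map_of_injective F ((jres L).X j)
  have hH : ∀ i, i < n → IsZero (K.homology i) := fun i hi =>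
    (isZero_rightDerived_mapC F i L (h i hi)).of_iso
      ((injectiveResolution L).isoRightDerivedObj (mapC F) i).symm
  have hcyc : ∀ j, j < n → (K.cycles j).Acyclic := by
    intro j
    induction j with
    | zero =>
      intro hj m
      rw [exactAt_iff_isZero_homology]
      exact (HomologicalComplex.homologyFunctor B (ComplexShape.up ℤ) m).map_isZero
        ((hH 0 hj).of_iso (CochainComplex.isoHomologyπ₀ K))
    | succ j ih =>
      intro hj
      exact acyclic_X₃ (AcycResLib.cyclesSC_shortExact K j (j + 1) (by simp) (by simp)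
        ((exactAt_iff_isZero_homology _ _).2 (hH _ hj))) (ih (by omega)) (hX j)
  have hπ : IsIso (DerivedCategory.Q.map (K.homologyπ n)) := by
    cases n with
    | zero => infer_instance
    | succ j =>
      let p : K.X j ⟶ kernel (K.homologyπ (j + 1)) :=
        kernel.lift _ (K.toCycles j (j + 1)) (K.toCycles_comp_homologyπ j (j + 1))
      have hp : p ≫ kernel.ι (K.homologyπ (j + 1)) = K.toCycles j (j + 1) := kernel.lift_ι _ _ _
      haveI : Epi p := by
        rw [epi_iff_surjective_up_to_refinements]
        intro T y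
        have hex : (ShortComplex.mk _ _ (K.toCycles_comp_homologyπ j (j + 1))).Exact :=
          ShortComplex.exact_of_g_is_cokernel _ (K.homologyIsCokernel j (j + 1) (by simp))
        obtain ⟨T', π, hπ, x, hx⟩ := hex.exact_up_to_refinements (y ≫ kernel.ι _)
          (by simp [Category.assoc])
        refine ⟨T', π, hπ, x, ?_⟩
        rw [← cancel_mono (kernel.ι (K.homologyπ (j + 1))), Category.assoc, Category.assoc, hp]
        exact hx
      have w : K.iCycles j ≫ p = 0 := by
        rw [← cancel_mono (kernel.ι (K.homologyπ (j + 1))), Category.assoc, hp, zero_comp,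
          ← cancel_mono (K.iCycles (j + 1)), Category.assoc, toCycles_i, iCycles_d, zero_comp]
      have hS : (ShortComplex.mk (K.iCycles j) p w).ShortExact := by
        refine { exact := ?_, mono_f := inferInstanceAs (Mono (K.iCycles j)), epi_g := ‹Epi p› }
        rw [ShortComplex.exact_iff_exact_up_to_refinements]
        intro T x hx
        refine ⟨T, 𝟙 T, inferInstance, K.liftCycles x (j + 1) (by simp) ?_,
          (Category.id_comp x).trans (K.liftCycles_i x (j + 1) (by simp) _).symm⟩
        have := congrArg (· ≫ kernel.ι (K.homologyπ (j + 1)) ≫ K.iCycles (j + 1)) hx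
        simpa [reassoc_of% hp] using this
      haveI : Epi (K.homologyπ (j + 1)) := inferInstance
      exact isIso_Q_map_g (S := ShortComplex.mk (kernel.ι (K.homologyπ (j + 1))) (K.homologyπ (j + 1))
        (kernel.condition _))
        { exact := ShortComplex.exact_kernel _ } (acyclic_X₃ hS (hcyc j (by omega)) (hX j))
  haveI := isIso_liftCycles F L n
  haveI := hπ
  simp only [toR, Functor.map_comp]
  infer_instance

end Proj

end Groth.Agent.LDerShiftLib
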